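import Cfsg.Agent.KFacts.He.RecOut

/-!
# No normal elementary abelian subgroup of order 16 of `C(z)` in `He` is normalised by the centralisers of all its elements
-/

set_option autoImplicit false
set_option Elab.async false

namespace Cfsg.Agent.H20.He

open Cfsg.Spor Cfsg.Spor.He Cfsg.Agent.SporadicB.HePerm Cfsg.Agent.KFacts.He.Words
  Cfsg.Agent.KFacts.He.Hyp Cfsg.Agent.KFacts.He.AutP Cfsg.Agent.Held.Letters Cfsg.Agent.Held.GenC
  Cfsg.Agent.KFacts.He.Bound Cfsg.Agent.Held.LetterVals Cfsg.Agent.KFacts.He.Classes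
  Cfsg.Agent.SporadicRecognition.CosetCert Cfsg.Agent.SporadicRecognition.HeldModel
open Cfsg.Agent.Held.Code (Emb C X mu mu_assoc mu_e1 mu_lt exists_emb)
open Cfsg.Agent.Held.EmbSt (cx C_cx cx_sq evC C_evC ev_ph ph_e1)

/-- value of a word -/
noncomputable abbrev E (w : List ℕ) : Cfsg.Spor.He := ev (gy xr y1 y2) w

theorem ne_of_eqW {u v : List ℕ} (h : eqW u v = false) : E u ≠ E v := by
  intro e
  have key : ∀ i, i < 2058 → im u i = im v i := by
    intro i hi
    have h1 := im_spec u ⟨i, hi⟩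
    have h2 := im_spec v ⟨i, hi⟩
    rw [← h1, ← h2]
    exact congrArg (fun x => ((phi x ⟨i, hi⟩ : Fin 2058) : ℕ)) e
  unfold eqW at h
  rw [key 0 (by norm_num), key 1 (by norm_num), key 32 (by norm_num), key 8 (by norm_num)] at h
  simp only [Nat.beq_refl] at h
  exact absurd h (by simp)

theorem comm_z {w : List ℕ} (hw : ∀ l ∈ w, l < 12) : E w * z = z * E w := by
  obtain ⟨ph, F, hph⟩ := exists_ph
  have e3 : ph (evC w) = E w := by
    rw [← ev_ph F]
    apply ev_congr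
    intro l hl
    rw [gy_of_lt xr y1 y2 (hw l hl), Held.EmbSt.gx_ph F, hph l (hw l hl)]
  rw [← e3]
  exact F.comm (C_evC w)

/-- the involutions of `C(z)` up to conjugation in `C(z)` -/
theorem exists_min' {t : Cfsg.Spor.He} (ht : t * t = 1) (h1 : t ≠ 1) (hz : t * z = z * t) :
    ∃ w ∈ mins, ∃ g : Cfsg.Spor.He, g * z = z * g ∧ g * t * g⁻¹ = E w := by
  obtain ⟨ph, F, hph⟩ := exists_ph
  obtain ⟨c, hc, rfl⟩ := F.surj t hz
  have e1 : mu c c = Held.Code.e1 := by
    apply F.inj (hc.mul hc) Held.Code.C_e1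
    rw [F.mul hc hc, ht, ph_e1 F]
  have e2 : c ≠ Held.Code.e1 := by
    rintro rfl
    exact h1 (ph_e1 F)
  obtain ⟨w, hw, g, hgz, hg⟩ := exists_min F c c le_rfl hc e1 e2
  have hlt : ∀ w ∈ mins, ∀ l ∈ w, l < 12 := by decide
  have e3 : ph (evC w) = E w := by
    rw [← ev_ph F]
    apply ev_congr
    intro l hl
    rw [gy_of_lt xr y1 y2 (hlt w hw l hl), Held.EmbSt.gx_ph F, hph l (hlt w hw l hl)]
  exact ⟨w, hw, g, hgz, by rw [hg, e3]⟩

/-- `w`, `l` : `w` and its conjugate by `l` do not commute -/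
def cert : List (List ℕ × List ℕ) := [([5], [10, 11]), ([0,8], [5,11]), ([0,9], [4,7]), ([1,5], [9,10]),
  ([1,6], [7,11,10]), ([1,9], [5,10]), ([2,6], [10,11]), ([2,8], [4,10,11]), ([3,5], [10,11]), ([5,8], [0,11]),
  ([4,10,4], [4]), ([7,11,7], [7]), ([0,7,11,7], [7]), ([2,4,10,4], [4]), ([3,4,10,4], [4]), ([3,7,11,7], [7]),
  ([4,9,10,4], [4]), ([6,7,11,7], [7]), ([5,10,11,10,11,5], [5]), ([1,5,10,11,10,11,5], [5]),
  ([3,5,10,11,10,11,5], [5]), ([5,8,10,11,10,11,5], [5])]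

/-- the remaining minimal involutions -/
def rest : List (List ℕ) := [[0], [1], [2], [3], [6], [8], [9]]

theorem mins_split : ∀ w ∈ mins, w ∈ rest ∨ ∃ p ∈ cert, p.1 = w := by decide

theorem cert_lt : ∀ p ∈ cert, ∀ l ∈ p.2, l < 12 := by decide

theorem cert_inv : (cert.all fun p => eqW (p.2 ++ p.2.reverse) []) = true := by decide +kernel

theorem cert_comm : (cert.all fun p => !(eqW (p.1 ++ (p.2 ++ p.1 ++ p.2.reverse)) ((p.2 ++ p.1 ++ p.2.reverse) ++ p.1))) =
    true := by decide +kernel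

theorem E_append (u v : List ℕ) : E (u ++ v) = E u * E v := ev_append _ _ _

theorem E_nil : E [] = 1 := rfl

theorem inv_of {l l' : List ℕ} (h : eqW (l ++ l') [] = true) : (E l)⁻¹ = E l' := by
  rw [inv_eq_iff_mul_eq_one, ← E_append]
  exact weq h

variable {A : Subgroup Cfsg.Spor.He}

theorem not_of_cert (hab : ∀ x ∈ A, ∀ y ∈ A, x * y = y * x)
    (hn : ∀ y ∈ A, y ≠ 1 → ∀ c, c * y = y * c → ∀ x ∈ A, c * x * c⁻¹ ∈ A) (hz : z ∈ A)
    {p : List ℕ × List ℕ} (hp : p ∈ cert) : E p.1 ∉ A := by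
  intro hA
  have h1 := List.all_eq_true.1 cert_inv p hp
  have h2 := List.all_eq_true.1 cert_comm p hp
  simp only [Bool.not_eq_true'] at h2
  have h3 := hn z hz z_ne_one _ (comm_z (cert_lt p hp)) _ hA
  rw [inv_of h1, ← E_append, ← E_append] at h3
  have h4 := hab _ hA _ h3
  rw [← E_append, ← E_append] at h4
  exact ne_of_eqW h2 h4

/-- conjugation by a word `l` with inverse `l'` -/
theorem conj_mem {y : Cfsg.Spor.He} (hn : ∀ y ∈ A, y ≠ 1 → ∀ c, c * y = y * c → ∀ x ∈ A, c * x * c⁻¹ ∈ A)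
    (hy : y ∈ A) (hy1 : y ≠ 1) {l l' : List ℕ} (hl : eqW (l ++ l') [] = true) (hc : E l * y = y * E l) {x : List ℕ}
    (hx : E x ∈ A) : E (l ++ x ++ l') ∈ A := by
  have h3 := hn y hy hy1 _ hc _ hx
  rwa [inv_of hl, ← E_append, ← E_append] at h3

/-- the first normal subgroup -/
theorem false_one (hab : ∀ x ∈ A, ∀ y ∈ A, x * y = y * x)
    (hn : ∀ y ∈ A, y ≠ 1 → ∀ c, c * y = y * c → ∀ x ∈ A, c * x * c⁻¹ ∈ A) (h0 : E [0] ∈ A) (h1 : E [1] ∈ A) : False := by
  -- the conjugate of the letter 11 by the word `g`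
  have hg : eqW ([13,11,7,10,4] ++ [4,10,7,11,12]) [] = true := by decide +kernel
  have hg' : eqW ([4,10,7,11,12] ++ [13,11,7,10,4]) [] = true := by decide +kernel
  have hz : E ([13,11,7,10,4] ++ [0] ++ [4,10,7,11,12]) = z := by
    have : E ([13,11,7,10,4] ++ [0] ++ [4,10,7,11,12]) = E [3] := weq (by decide +kernel)
    rw [this]
    rfl
  have hc : E ([4,10,7,11,12] ++ [11] ++ [13,11,7,10,4]) * E [0] = E [0] * E ([4,10,7,11,12] ++ [11] ++ [13,11,7,10,4]) := by
    rw [← E_append, ← E_append]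
    exact weq (by decide +kernel)
  have hl : eqW (([4,10,7,11,12] ++ [11] ++ [13,11,7,10,4]) ++ ([4,10,7,11,12] ++ [11] ++ [13,11,7,10,4])) [] = true := by
    decide +kernel
  have h01 : E [0] ≠ 1 := by
    rw [← E_nil]
    exact ne_of_eqW (by decide +kernel)
  have h3 := conj_mem hn h0 h01 hl hc h1
  have h4 := hab _ h1 _ h3
  rw [← E_append, ← E_append] at h4
  exact ne_of_eqW (by decide +kernel) h4

/-- the second normal subgroup -/
theorem false_two (hab : ∀ x ∈ A, ∀ y ∈ A, x * y = y * x)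
    (hn : ∀ y ∈ A, y ≠ 1 → ∀ c, c * y = y * c → ∀ x ∈ A, c * x * c⁻¹ ∈ A) (h0 : E [9] ∈ A) (h1 : E [8] ∈ A) : False := by
  have hc : E ([7,11,4,10,14] ++ [10] ++ [15,10,4,11,7]) * E [9] = E [9] * E ([7,11,4,10,14] ++ [10] ++ [15,10,4,11,7]) := by
    rw [← E_append, ← E_append]
    exact weq (by decide +kernel)
  have hl : eqW (([7,11,4,10,14] ++ [10] ++ [15,10,4,11,7]) ++ ([7,11,4,10,14] ++ [10] ++ [15,10,4,11,7])) [] = true := by
    decide +kernel
  have h01 : E [9] ≠ 1 := by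
    rw [← E_nil]
    exact ne_of_eqW (by decide +kernel)
  have h3 := conj_mem hn h0 h01 hl hc h1
  have h4 := hab _ h1 _ h3
  rw [← E_append, ← E_append] at h4
  exact ne_of_eqW (by decide +kernel) h4

theorem step (hn : ∀ y ∈ A, y ≠ 1 → ∀ c, c * y = y * c → ∀ x ∈ A, c * x * c⁻¹ ∈ A) (hz : z ∈ A) {a l b : ℕ}
    (hl : l < 12) (h2 : eqW ([l] ++ [l]) [] = true) (h : eqW ([a] ++ ([l] ++ [a] ++ [l])) [b] = true) (ha : E [a] ∈ A) :
    E [b] ∈ A := by
  have h3 := conj_mem hn hz z_ne_one h2 (comm_z (by simpa using hl)) ha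
  have h4 := A.mul_mem ha h3
  rw [← E_append] at h4
  have h5 : E ([a] ++ ([l] ++ [a] ++ [l])) = E [b] := weq h
  rwa [h5] at h4

theorem main (hab : ∀ x ∈ A, ∀ y ∈ A, x * y = y * x)
    (hn : ∀ y ∈ A, y ≠ 1 → ∀ c, c * y = y * c → ∀ x ∈ A, c * x * c⁻¹ ∈ A) (hz : z ∈ A) {t : Cfsg.Spor.He} (ht : t ∈ A)
    (h2 : t * t = 1) (h1 : t ≠ 1) (htz : t ≠ z) : False := by
  obtain ⟨w, hw, g, hg, he⟩ := exists_min' h2 h1 (hab _ ht _ hz)
  have hwA : E w ∈ A := by
    rw [← he]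
    exact hn z hz z_ne_one g hg t ht
  rcases mins_split w hw with hr | ⟨p, hp, rfl⟩
  swap
  · exact not_of_cert hab hn hz hp hwA
  have s01 : E [0] ∈ A → E [1] ∈ A := step hn hz (l := 4) (by norm_num) (by decide +kernel) (by decide +kernel)
  have s10 : E [1] ∈ A → E [0] ∈ A := step hn hz (l := 10) (by norm_num) (by decide +kernel) (by decide +kernel)
  have s21 : E [2] ∈ A → E [1] ∈ A := step hn hz (l := 11) (by norm_num) (by decide +kernel) (by decide +kernel)
  have s98 : E [9] ∈ A → E [8] ∈ A := step hn hz (l := 7) (by norm_num) (by decide +kernel) (by decide +kernel)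
  have s89 : E [8] ∈ A → E [9] ∈ A := step hn hz (l := 11) (by norm_num) (by decide +kernel) (by decide +kernel)
  have s68 : E [6] ∈ A → E [8] ∈ A := step hn hz (l := 10) (by norm_num) (by decide +kernel) (by decide +kernel)
  simp only [rest, List.mem_cons, List.not_mem_nil, or_false] at hr
  rcases hr with rfl | rfl | rfl | rfl | rfl | rfl | rfl
  · exact false_one hab hn hwA (s01 hwA)
  · exact false_one hab hn (s10 hwA) hwA
  · exact false_one hab hn (s10 (s21 hwA)) (s21 hwA)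
  · apply htz
    have h3 : g * t * g⁻¹ = z := he
    have h4 : g * z * g⁻¹ = z := by rw [hg]; group
    have h5 : g * t * g⁻¹ = g * z * g⁻¹ := h3.trans h4.symm
    exact mul_left_cancel (mul_right_cancel h5)
  · exact false_two hab hn (s89 (s68 hwA)) (s68 hwA)
  · exact false_two hab hn (s89 hwA) hwA
  · exact false_two hab hn hwA (s98 hwA)

end Cfsg.Agent.H20.He
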